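import Cfsg.Agent.H384.RG.HexB
import Cfsg.Agent.H148.CoordW

/-!
# Groups of type `G₂` and `³D₄`, any characteristic: centralisers of short root elements (helper384)

* `cent_form` : an element commuting with `x3 a`, `a ≠ 0`, lies in `Qb · pa SL₂(F)`;
* `exists_crs` : every `a` is a sum of two elements `crs b c` with `trc a b = trc a c = 0`.
-/

set_option autoImplicit false

namespace Cfsg.Agent.H384.RG.HexB

open Cfsg.Agent.SplitTwo Cfsg.Agent.TitsThree.RankTwoZ Cfsg.Agent.Lib.SL2Mat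
  Cfsg.Agent.TitsThree.RankTwoIdx Cfsg.Agent.TitsThree.RankTwoRGD Cfsg.Agent.Cit.HexBase
  Cfsg.Agent.Cit.HexBase.HexGrp Cfsg.Agent.H148.Hex
open scoped commutatorElement

universe u

variable {E : Type*} [Field E] {σ : E ≃+* E} {L : Type u} [Group L] {c : HexGrp σ L}

/-! ### Coordinates -/

theorem Vinv {g : L} {t2 b t4 : E} (h : V c g t2 b t4) : V c g⁻¹ (-t2) (-b) (-t4) := by
  have h1 : V c (c.x2 (-t2) * c.x3 (-b) * c.x4 (-t4)) (-t2) (-b) (-t4) := ⟨neg_fix h.1, neg_fix h.2.1, rfl⟩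
  have h2 := (h.mul h1).congr rfl (add_neg_cancel t2) (add_neg_cancel b) (add_neg_cancel t4)
  have h3 : g * (c.x2 (-t2) * c.x3 (-b) * c.x4 (-t4)) = 1 := by
    rw [h2.2.2, c.x2_zero, c.x3_zero, c.x4_zero]
    group
  exact h1.congr (eq_inv_of_mul_eq_one_right h3) rfl rfl rfl

theorem Vne {g : L} {t2 b t4 : E} (h : V c g t2 b t4) (hb : b ≠ 0) : g ≠ 1 := by
  rintro rfl
  exact hb (h.unique V.zero).2.1

theorem Winv {g : L} {a5 a1 : E} (h : W c g a5 a1) : W c g⁻¹ (-a5) (-a1) := by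
  have h1 := (exists_W c (inv_mem h.mem))
  obtain ⟨b5, b1, hb⟩ := h1
  have h2 := (h.mul hb).congr (mul_inv_cancel g) rfl rfl
  have h3 := h2.unique (w0 c (one_mem _))
  refine hb.congr rfl ?_ ?_
  · linear_combination h3.1
  · linear_combination h3.2

/-! ### Conjugation preserving the coordinate of `X 3` -/

/-- conjugation by `g` preserves the coordinate of `X 3` on `Sg {2, 3, 4}` -/
def P3 (c : HexGrp σ L) (g : L) : Prop := ∀ z t2 b t4, V c z t2 b t4 → ∃ t2' t4', V c (g * z * g⁻¹) t2' b t4'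

theorem P3.one : P3 c (1 : L) := fun z t2 b t4 h => ⟨t2, t4, h.congr (by group) rfl rfl rfl⟩

theorem P3.mul {g h : L} (hg : P3 c g) (hh : P3 c h) : P3 c (g * h) := by
  intro z t2 b t4 hz
  obtain ⟨_, _, h1⟩ := hh z _ _ _ hz
  obtain ⟨_, _, h2⟩ := hg _ _ _ _ h1
  exact ⟨_, _, h2.congr (by group) rfl rfl rfl⟩

theorem p3_pa (m : SL2 ↥(fx σ)) : P3 c (c.pa m) := fun _ _ _ _ h => ⟨_, _, V.pa c h m⟩

theorem p3_mid {k : L} (hk : k ∈ Sg c.X {2, 3, 4}) : P3 c k := by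
  obtain ⟨s2, d, s4, hV⟩ := exists_V c hk
  intro z t2 b t4 hz
  exact ⟨t2, t4, ((hV.mul hz).mul (Vinv hV)).congr rfl (by ring) (by ring) (by ring)⟩

theorem p3_x1 (a : E) : P3 c (c.x1 a) := by
  rintro z t2 b t4 ⟨h2, h4, rfl⟩
  have hτ : σ (trc σ a b) = trc σ a b := trc_fix c.cube a b
  have e2 := eq_of_kk (c.par.rel.c12 a t2 h2)
  have e4 := eq_of_kk (c.par.rel.c14 a t4 h4)
  have eτ := eq_of_kk (c.par.rel.c12 a _ hτ)
  have e3 := mul_eq_kk (c.x1 a) (c.x3 b)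
  rw [c.par.rel.c13] at e3
  refine ⟨t2 + (0 + trc σ a b), t4, (((v2 c h2).mul ((v3 c b).mul (v2 c hτ))).mul (v4 c h4)).congr ?_ (by ring) (by ring)
    (by ring)⟩
  calc c.x2 t2 * (c.x3 b * c.x2 (trc σ a b)) * c.x4 t4
      = c.x2 t2 * c.x3 b * (c.x2 (trc σ a b) * c.x1 a) * (c.x1 a)⁻¹ * c.x4 t4 := by group
    _ = c.x2 t2 * (c.x3 b * c.x1 a * c.x2 (trc σ a b)) * (c.x1 a)⁻¹ * c.x4 t4 := by rw [← eτ]; group
    _ = (c.x2 t2 * c.x1 a) * c.x3 b * ((c.x1 a)⁻¹ * (c.x4 t4 * c.x1 a) * (c.x1 a)⁻¹) := by rw [← e3]; group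
    _ = c.x1 a * (c.x2 t2 * c.x3 b * c.x4 t4) * (c.x1 a)⁻¹ := by rw [← e2, ← e4]; group

theorem p3_x5 (a : E) : P3 c (c.x5 a) := by
  rintro z t2 b t4 ⟨h2, h4, rfl⟩
  have hτ : σ (trc σ b (-a)) = trc σ b (-a) := trc_fix c.cube b (-a)
  have e2 := eq_of_kk (c.par.rel.c25 t2 a h2)
  have e4 := eq_of_kk (c.par.rel.c45 t4 a h4)
  have e3 := mul_eq_kk (c.x3 b) (c.x5 (-a))
  rw [c.par.rel.c35, c.x5_neg] at e3
  have e5 : c.x5 a * c.x3 b * (c.x5 a)⁻¹ = c.x3 b * c.x4 (trc σ b (-a)) := by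
    calc c.x5 a * c.x3 b * (c.x5 a)⁻¹ = c.x5 a * (c.x3 b * (c.x5 a)⁻¹) := by group
      _ = _ := by rw [e3]; group
  refine ⟨t2, trc σ b (-a) + t4, (((v2 c h2).mul ((v3 c b).mul (v4 c hτ))).mul (v4 c h4)).congr ?_ (by ring) (by ring)
    (by ring)⟩
  calc c.x2 t2 * (c.x3 b * c.x4 (trc σ b (-a))) * c.x4 t4
      = (c.x2 t2 * c.x5 a) * c.x3 b * (c.x5 a)⁻¹ * c.x4 t4 := by rw [← e5]; group
    _ = c.x5 a * (c.x2 t2 * c.x3 b) * (c.x5 a)⁻¹ * (c.x4 t4 * c.x5 a) * (c.x5 a)⁻¹ := by rw [e2]; group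
    _ = c.x5 a * (c.x2 t2 * c.x3 b * c.x4 t4) * (c.x5 a)⁻¹ := by rw [e4]; group

theorem p3_pos {g : L} (hg : g ∈ Sg c.X Pos) : P3 c g := by
  obtain ⟨a1, h1, a2, h2, a3, h3, a4, h4, a5, h5, a6, h6, rfl⟩ := c.exists_prod hg
  obtain ⟨b1, rfl⟩ := (c.par.mem1 _).1 h1
  obtain ⟨b5, rfl⟩ := (c.par.mem5 _).1 h5
  obtain ⟨b6, hb6, rfl⟩ := (c.par.mem6 _).1 h6
  have e6 : c.x6 b6 = c.pa (up ⟨b6, hb6⟩) := (c.pa_up ⟨b6, hb6⟩).symm
  rw [e6]
  exact (((((p3_x1 b1).mul (p3_mid (c.sg (by decide) h2))).mul (p3_mid (c.sg (by decide) h3))).mul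
    (p3_mid (c.sg (by decide) h4))).mul (p3_x5 b5)).mul (p3_pa _)

theorem p3_Qb {g : L} (hg : g ∈ Sg c.X Qb) : P3 c g := p3_pos (Sg_mono (by decide +kernel) hg)

/-! ### Centralisers of short root elements -/

/-- the index condition -/
def G3 (f : ZMod (2 * 6) → ZMod (2 * 6)) : Prop :=
  Sep {f 2, f 3, f 4} {2, 3, 4} ∨ Sep (insert 4 {f 2, f 3, f 4}) {2, 3} ∨ Sep (insert 2 {f 2, f 3, f 4}) {3, 4}

instance (f : ZMod (2 * 6) → ZMod (2 * 6)) : Decidable (G3 f) := by unfold G3; infer_instance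

theorem idx3 : ∀ r : Fin 7,
    (r.val = 0 ∨ G3 (fun k => if Even r.val then k + (r.val : ZMod (2 * 6)) else 7 - k + (r.val : ZMod (2 * 6)))) ∧
    (r.val = 0 ∨ r.val = 1 ∨
      G3 (fun k => if Even r.val then k - (r.val : ZMod (2 * 6)) else 7 - k - (r.val : ZMod (2 * 6)))) := by
  decide +kernel

theorem rep_cases {w : L} {f : ZMod (2 * 6) → ZMod (2 * 6)} (h : c.IsRep w f) : w = 1 ∨ w = c.n6 ∨ G3 f := by
  obtain ⟨r, hr, ⟨rfl, rfl⟩ | ⟨rfl, rfl⟩⟩ := h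
  · rcases (idx3 ⟨r, by omega⟩).1 with h | h
    · obtain rfl : r = 0 := h
      exact Or.inl rfl
    · exact Or.inr (Or.inr h)
  · rcases (idx3 ⟨r, by omega⟩).2 with h | h | h
    · obtain rfl : r = 0 := h
      exact Or.inl rfl
    · obtain rfl : r = 1 := h
      refine Or.inr (Or.inl ?_)
      rw [alt_succ]
      exact mul_one _
    · exact Or.inr (Or.inr h)

/-- `w` moves an element of `X 2 X 3 X 4` with nontrivial coordinate at `3` -/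
theorem not_G3 {w z : L} {f : ZMod (2 * 6) → ZMod (2 * 6)} (hw : Maps c.X w f) (hz : z ∈ Sg c.X {2, 3, 4})
    {r2 a r4 : E} (ha : a ≠ 0) (h : V c (w * z * w⁻¹) r2 a r4) : ¬ G3 f := by
  have h1 : w * z * w⁻¹ ∈ Sg c.X {f 2, f 3, f 4} := by
    refine conj_Sg hw (fun k hk => ?_) hz
    simp only [Finset.mem_insert, Finset.mem_singleton] at hk ⊢
    rcases hk with rfl | rfl | rfl
    · exact Or.inl rfl
    · exact Or.inr (Or.inl rfl)
    · exact Or.inr (Or.inr rfl)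
  obtain ⟨h2, h4, e⟩ := h
  have k2 := c.mem2 h2
  have k3 := c.mem3 a
  have k4 := c.mem4 h4
  rintro (hs | hs | hs)
  · exact Vne ⟨h2, h4, e⟩ ha (c.eq_one_of_sep hs h1 (show V c _ r2 a r4 from ⟨h2, h4, e⟩).mem)
  · have h5 : c.x2 r2 * c.x3 a ∈ Sg c.X (insert 4 {f 2, f 3, f 4}) := by
      have e2 : c.x2 r2 * c.x3 a = w * z * w⁻¹ * (c.x4 r4)⁻¹ := by rw [e]; group
      rw [e2]
      exact mul_mem (Sg_mono (Finset.subset_insert _ _) h1) (inv_mem (c.sg (Finset.mem_insert_self _ _) k4))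
    have h6 := c.eq_one_of_sep hs h5 (mul_mem (c.sg (by decide) k2) (c.sg (by decide) k3))
    exact Vne (((v2 c h2).mul (v3 c a)).congr rfl rfl (zero_add a) rfl) ha h6
  · have h5 : c.x3 a * c.x4 r4 ∈ Sg c.X (insert 2 {f 2, f 3, f 4}) := by
      have e2 : c.x3 a * c.x4 r4 = (c.x2 r2)⁻¹ * (w * z * w⁻¹) := by rw [e]; group
      rw [e2]
      exact mul_mem (inv_mem (c.sg (Finset.mem_insert_self _ _) k2)) (Sg_mono (Finset.subset_insert _ _) h1)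
    have h6 := c.eq_one_of_sep hs h5 (mul_mem (c.sg (by decide) k3) (c.sg (by decide) k4))
    exact Vne (((v3 c a).mul (v4 c h4)).congr rfl rfl (add_zero a) rfl) ha h6

theorem split6 {g : L} (hg : g ∈ Sg c.X Pos) : ∃ ρ ∈ Sg c.X Qb, ∃ t : ↥(fx σ), g = ρ * c.pa (up t) := by
  have e : (Pos : Finset (ZMod (2 * 6))) = insert 6 Qb := by decide +kernel
  rw [e] at hg
  obtain ⟨v, hv, x, hx, rfl⟩ := c.exists_mul' (k := 6) (s := Qb) (by decide +kernel) hg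
  obtain ⟨t, ht, rfl⟩ := (c.par.mem6 _).1 hx
  exact ⟨v, hv, ⟨t, ht⟩, by rw [c.pa_up]⟩

theorem pa_Qb_conj (m : SL2 ↥(fx σ)) {g : L} (hg : g ∈ Sg c.X Qb) : c.pa m * g * (c.pa m)⁻¹ ∈ Sg c.X Qb :=
  pa_conj c (by decide +kernel) (by decide +kernel) m g hg

/-- an element commuting with `x3 a` -/
theorem cent_form [Finite E] {a : E} (ha : a ≠ 0) {y : L} (hy : y * c.x3 a = c.x3 a * y) :
    ∃ ρ ∈ Sg c.X Qb, ∃ m : SL2 ↥(fx σ), y = ρ * c.pa m := by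
  obtain ⟨u, hu, w, f, hw, h, ⟨c1, c6, hA⟩, t, ht, htf, v, hv, rfl⟩ := bruhat c y
  have hv' : v ∈ Sg c.X Pos := Sg_mono ht hv
  -- `w` is `1` or `n6`
  have hw1 : w = 1 ∨ w = c.n6 := by
    obtain ⟨s2, s4, k1⟩ := p3_pos hv' _ _ _ _ (v3 c a)
    have k2 := k1.act hA
    obtain ⟨r2, r4, k3⟩ := p3_pos (inv_mem hu) _ _ _ _ (v3 c a)
    have e : u⁻¹ * c.x3 a * u⁻¹⁻¹ = w * (h * (v * c.x3 a * v⁻¹) * h⁻¹) * w⁻¹ := by
      calc u⁻¹ * c.x3 a * u⁻¹⁻¹ = u⁻¹ * (c.x3 a * (u * w * h * v)) * v⁻¹ * h⁻¹ * w⁻¹ := by group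
        _ = _ := by rw [← hy]; group
    rw [e] at k3
    rcases rep_cases hw with h1 | h1 | h1
    · exact Or.inl h1
    · exact Or.inr h1
    · exact absurd h1 (not_G3 hw.maps k2.mem ha k3)
  obtain ⟨w', rfl⟩ : ∃ w', w = c.pa w' := by
    rcases hw1 with rfl | rfl
    · exact ⟨1, (map_one _).symm⟩
    · exact ⟨_, rfl⟩
  obtain ⟨ρ1, hρ1, t1, rfl⟩ := split6 hu
  obtain ⟨ρ2, hρ2, t2, rfl⟩ := split6 hv'
  -- `y = ρ pa(m) h`
  obtain ⟨m, hm⟩ : ∃ m, m = up t1 * w' * up (⟨c6, hA.fix⟩ * t2) := ⟨_, rfl⟩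
  have e6 : h * c.pa (up t2) * h⁻¹ = c.pa (up (⟨c6, hA.fix⟩ * t2)) := by
    rw [c.pa_up, c.pa_up, hA.a6 _ t2.2]
    rfl
  obtain ⟨ρ, hρ⟩ : ∃ ρ, ρ = ρ1 * (c.pa (up t1 * w') * (h * ρ2 * h⁻¹) * (c.pa (up t1 * w'))⁻¹) := ⟨_, rfl⟩
  have hρm : ρ ∈ Sg c.X Qb := by
    rw [hρ]
    exact mul_mem hρ1 (pa_Qb_conj _ (c.T0_conj ⟨_, _, hA⟩ hρ2))
  have ey : ρ1 * c.pa (up t1) * c.pa w' * h * (ρ2 * c.pa (up t2)) = ρ * c.pa m * h := by
    rw [hρ, hm, map_mul _ _ (up (⟨c6, hA.fix⟩ * t2)), ← e6, map_mul]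
    group
  rw [ey] at hy ⊢
  -- the torus part
  obtain ⟨s2, s4, k1⟩ := (p3_Qb hρm) _ _ _ _ (V.pa c ((v3 c a).act hA) m)
  have e3 : ρ * (c.pa m * (h * c.x3 a * h⁻¹) * (c.pa m)⁻¹) * ρ⁻¹ = c.x3 a := by
    calc _ = ρ * c.pa m * h * c.x3 a * (ρ * c.pa m * h)⁻¹ := by group
      _ = c.x3 a := by rw [hy]; group
  have k2 := (k1.congr e3 rfl rfl rfl).unique (v3 c a)
  have k3 : c6 * shp σ c1 = 1 := by
    have := k2.2.1
    exact mul_right_cancel₀ ha (by rw [this, one_mul])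
  have n1 := hA.ne1
  have k4 : σ c1 = c1 := by
    have h1 : c6 * nrm σ c1 = c1 := by
      have : nrm σ c1 = shp σ c1 * c1 := by unfold nrm shp; ring
      rw [this, ← mul_assoc, k3, one_mul]
    have h2 := c.nf c1
    have h3 := mul_fix hA.fix h2
    rwa [h1] at h3
  have k5 : c6 = (c1 ^ 2)⁻¹ := by
    have : shp σ c1 = c1 ^ 2 := by unfold shp; rw [k4, k4]; ring
    rw [this] at k3
    exact eq_inv_of_mul_eq_one_left k3
  have hne : (⟨c1⁻¹, inv_fix k4⟩ : ↥(fx σ)) ≠ 0 := fun h => inv_ne_zero n1 (congrArg Subtype.val h)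
  have k6 := c.act_a ⟨c1⁻¹, inv_fix k4⟩ hne
  have k7 : h = c.pa (dg ⟨c1⁻¹, inv_fix k4⟩ hne) := by
    refine hA.unique (k6.congr rfl ?_ ?_)
    · change (c1⁻¹)⁻¹ = c1
      rw [inv_inv]
    · change (c1⁻¹) ^ 2 = c6
      rw [k5, inv_pow]
  exact ⟨ρ, hρm, m * dg ⟨c1⁻¹, inv_fix k4⟩ hne, by rw [map_mul, ← k7, mul_assoc]⟩

/-! ### The field -/

/-- `1` is a sum of two elements `α × β` with `Tr α = Tr β = 0` -/
theorem exists_crs_one (hc : ∀ a : E, σ (σ (σ a)) = a) (hσ : ∃ t : E, σ t ≠ t) :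
    ∃ a b a' b' : E, a + σ a + σ (σ a) = 0 ∧ b + σ b + σ (σ b) = 0 ∧ a' + σ a' + σ (σ a') = 0 ∧
      b' + σ b' + σ (σ b') = 0 ∧ crs σ a b + crs σ a' b' = 1 := by
  obtain ⟨t, ht⟩ := hσ
  obtain ⟨α, hα⟩ : ∃ α, α = σ t - t := ⟨_, rfl⟩
  have h0 : α ≠ 0 := by rw [hα]; exact sub_ne_zero.2 ht
  have hT : α + σ α + σ (σ α) = 0 := by
    rw [hα]
    simp only [map_sub, hc]
    ring
  obtain ⟨B, hB⟩ : ∃ B, B = σ α := ⟨_, rfl⟩
  obtain ⟨C, hC⟩ : ∃ C, C = σ B := ⟨_, rfl⟩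
  have hCA : σ C = α := by rw [hC, hB, hc]
  rw [← hB, ← hC] at hT
  have hB0 : B ≠ 0 := by rw [hB]; exact (map_ne_zero σ).2 h0
  have hC0 : C ≠ 0 := by rw [hC]; exact (map_ne_zero σ).2 hB0
  by_cases he : α * B + B * C + C * α = 0
  · refine ⟨α, -α⁻¹, 0, 0, ?_, ?_, ?_, ?_, ?_⟩
    · rw [← hB, ← hC]; exact hT
    · simp only [map_neg, map_inv₀]
      rw [← hB, ← hC]
      field_simp
      linear_combination -he
    · simp
    · simp
    · unfold crs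
      simp only [map_neg, map_inv₀, map_zero, mul_zero, add_zero]
      rw [← hB, ← hC]
      field_simp
      -- `-(B² + C²) = B C`
      linear_combination he - (B + C) * hT
  · obtain ⟨e, hee⟩ : ∃ e, e = α * B + B * C + C * α := ⟨_, rfl⟩
    rw [← hee] at he
    have hef : σ e = e := by
      rw [hee]
      simp only [map_add, map_mul]
      rw [← hB, ← hC, hCA]
      ring
    refine ⟨e⁻¹ * C, C, -(e⁻¹ * α), B, ?_, ?_, ?_, ?_, ?_⟩
    · simp only [map_mul, map_inv₀]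
      rw [hef, hef, hCA, ← hB]
      linear_combination e⁻¹ * hT
    · rw [hCA, ← hB]
      linear_combination hT
    · simp only [map_neg, map_mul, map_inv₀]
      rw [hef, hef, ← hB, ← hC]
      linear_combination -(e⁻¹) * hT
    · rw [← hC, hCA]
      linear_combination hT
    · unfold crs
      simp only [map_neg, map_mul, map_inv₀]
      rw [hef, hef, hCA, ← hB, ← hC, hCA]
      field_simp
      rw [hee]
      linear_combination (-C) * hT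

/-- every `c ≠ 0` is a sum of two elements `a × b` with `a, b ⟂ c` -/
theorem exists_crs (hc : ∀ a : E, σ (σ (σ a)) = a) (hσ : ∃ t : E, σ t ≠ t) {d : E} (hd : d ≠ 0) :
    ∃ a b a' b' : E, trc σ a d = 0 ∧ trc σ b d = 0 ∧ trc σ a' d = 0 ∧ trc σ b' d = 0 ∧
      crs σ a b + crs σ a' b' = d := by
  obtain ⟨a, b, a', b', h1, h2, h3, h4, h5⟩ := exists_crs_one hc hσ
  have hd1 : σ d ≠ 0 := (map_ne_zero σ).2 hd
  have hd2 : σ (σ d) ≠ 0 := (map_ne_zero σ).2 hd1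
  have hN : σ (nrm σ d) = nrm σ d := nrm_fix hc d
  have k1 : ∀ x : E, x + σ x + σ (σ x) = 0 → trc σ (x / d) d = 0 := by
    intro x hx
    unfold trc
    rw [div_mul_cancel₀ _ hd]
    exact hx
  have k2 : ∀ x : E, x + σ x + σ (σ x) = 0 → trc σ (nrm σ d * x / d) d = 0 := by
    intro x hx
    unfold trc
    rw [div_mul_cancel₀ _ hd, map_mul, map_mul, hN, hN]
    linear_combination nrm σ d * hx
  have k3 : ∀ x y : E, crs σ (x / d) (nrm σ d * y / d) = d * crs σ x y := by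
    intro x y
    unfold crs
    simp only [map_div₀, map_mul]
    rw [hN, hN]
    unfold nrm
    field_simp
  refine ⟨a / d, nrm σ d * b / d, a' / d, nrm σ d * b' / d, k1 a h1, k2 b h2, k1 a' h3, k2 b' h4, ?_⟩
  rw [k3, k3, ← mul_add, h5, mul_one]

end Cfsg.Agent.H384.RG.HexB
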