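import Cfsg.Agent.Cit.HexBruhat

/-!
# Groups of type `G₂` and `³D₄`, any characteristic: the Bruhat decomposition (helper384)

The proofs of `Cfsg.Agent.Cit.HexBruhat` without the assumption on the characteristic.
-/

set_option autoImplicit false

namespace Cfsg.Agent.H384.RG.HexB

open Cfsg.Agent.SplitTwo Cfsg.Agent.TitsThree.RankTwoZ Cfsg.Agent.Lib.SL2Mat
  Cfsg.Agent.TitsThree.RankTwoIdx Cfsg.Agent.TitsThree.RankTwoRGD Cfsg.Agent.Cit.HexBase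
  Cfsg.Agent.Cit.HexBase.HexGrp
open scoped commutatorElement

universe u

variable {E : Type*} [Field E] {σ : E ≃+* E} {L : Type u} [Group L] (c : HexGrp σ L)

/-- all pairs `(c1, c6)` occur -/
theorem exists_act [Finite E] {c1 c6 : E} (h1 : c1 ≠ 0) (h6 : c6 ≠ 0) (hf : σ c6 = c6) :
    ∃ (s : E) (hs : s ≠ 0) (t : ↥(fx σ)) (ht : t ≠ 0), c.Act (c.pb (dg s hs) * c.pa (dg t ht)) c1 c6 := by
  have : Finite Eˣ := inferInstance
  have : Finite (↥(fx σ))ˣ := inferInstance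
  let ν : Eˣ → (↥(fx σ))ˣ := fun s => Units.mk0 ⟨nrm σ s, c.nf s⟩ fun h =>
    nrm_ne (σ := σ) s.ne_zero (congrArg Subtype.val h)
  have hν : ∀ s, ((ν s : ↥(fx σ)) : E) = nrm σ s := fun s => rfl
  let ι : (↥(fx σ))ˣ → Eˣ := fun t => Units.mk0 ((t : ↥(fx σ)) : E) fun h => t.ne_zero (Subtype.ext h)
  have hι : ∀ t, (ι t : E) = ((t : ↥(fx σ)) : E) := fun t => rfl
  let Φ : Eˣ × (↥(fx σ))ˣ → Eˣ × (↥(fx σ))ˣ := fun x => (x.1 ^ 2 * (ι x.2)⁻¹, (ν x.1)⁻¹ * x.2 ^ 2)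
  have hinj : Function.Injective Φ := by
    rintro ⟨s, t⟩ ⟨s', t'⟩ h
    have e1 : (s : E) ^ 2 * ((t : ↥(fx σ)) : E)⁻¹ = (s' : E) ^ 2 * ((t' : ↥(fx σ)) : E)⁻¹ := by
      have := congrArg (fun x : Eˣ × (↥(fx σ))ˣ => (x.1 : E)) h
      simpa [Φ, hι] using this
    have e2 : (nrm σ (s : E))⁻¹ * ((t : ↥(fx σ)) : E) ^ 2 = (nrm σ (s' : E))⁻¹ * ((t' : ↥(fx σ)) : E) ^ 2 := by
      have := congrArg (fun x : Eˣ × (↥(fx σ))ˣ => ((x.2 : ↥(fx σ)) : E)) h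
      simpa [Φ, hν] using this
    have hs0 : (s : E) ≠ 0 := s.ne_zero
    have hs0' : (s' : E) ≠ 0 := s'.ne_zero
    have ht0 : ((t : ↥(fx σ)) : E) ≠ 0 := fun h => t.ne_zero (Subtype.ext h)
    have ht0' : ((t' : ↥(fx σ)) : E) ≠ 0 := fun h => t'.ne_zero (Subtype.ext h)
    have htf : σ ((t : ↥(fx σ)) : E) = t := (t : ↥(fx σ)).2
    have htf' : σ ((t' : ↥(fx σ)) : E) = t' := (t' : ↥(fx σ)).2
    -- the quotient `r = s / s'`, `w = t / t'`
    obtain ⟨r, hr⟩ : ∃ r : E, r = (s : E) / s' := ⟨_, rfl⟩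
    obtain ⟨w, hw⟩ : ∃ w : E, w = ((t : ↥(fx σ)) : E) / ((t' : ↥(fx σ)) : E) := ⟨_, rfl⟩
    have hr0 : r ≠ 0 := by rw [hr]; exact div_ne_zero hs0 hs0'
    have hwf : σ w = w := by rw [hw, map_div₀, htf, htf']
    have k1 : r ^ 2 = w := by
      rw [hr, hw]
      field_simp
      field_simp at e1
      linear_combination e1
    have hn : nrm σ (s : E) = nrm σ r * nrm σ (s' : E) := by
      rw [← nrm_mul, hr, div_mul_cancel₀ _ hs0']
    have k2 : w ^ 2 = nrm σ r := by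
      have hn0 := nrm_ne (σ := σ) hs0'
      have hn1 := nrm_ne (σ := σ) hr0
      rw [hn] at e2
      rw [hw]
      field_simp
      field_simp at e2
      linear_combination e2
    -- `σ r = r`
    have k3 : σ r = r := by
      have h3 : (σ r - r) * (σ r + r) = 0 := by
        have : σ r ^ 2 = r ^ 2 := by rw [← map_pow, k1, hwf]
        linear_combination this
      rcases mul_eq_zero.1 h3 with h3 | h3
      · exact sub_eq_zero.1 h3
      · have h4 : σ r = -r := eq_neg_of_add_eq_zero_left h3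
        have h5 := c.cube r
        rw [h4, map_neg, h4, neg_neg, h4] at h5
        rw [h4, h5]
    have k4 : r = 1 := by
      rw [nrm_of_fix k3, ← k1] at k2
      have h3 : r ^ 3 * (r - 1) = 0 := by linear_combination k2
      rcases mul_eq_zero.1 h3 with h4 | h4
      · exact absurd h4 (pow_ne_zero 3 hr0)
      · exact sub_eq_zero.1 h4
    have k5 : w = 1 := by rw [← k1, k4, one_pow]
    have es : s = s' := by
      apply Units.ext
      rw [k4] at hr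
      field_simp at hr
      exact hr.symm
    have et : t = t' := by
      apply Units.ext
      apply Subtype.ext
      rw [k5] at hw
      field_simp at hw
      exact hw.symm
    rw [es, et]
  obtain ⟨⟨s, t⟩, hst⟩ := (Finite.injective_iff_surjective.1 hinj)
    (Units.mk0 c1 h1, Units.mk0 ⟨c6, hf⟩ fun h => h6 (congrArg Subtype.val h))
  refine ⟨s, s.ne_zero, t, t.ne_zero, ?_⟩
  have h3 := (c.act_b s s.ne_zero).mul (c.act_a t t.ne_zero)
  have e1 : (s : E) ^ 2 * ((t : ↥(fx σ)) : E)⁻¹ = c1 := by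
    have := congrArg (fun x : Eˣ × (↥(fx σ))ˣ => (x.1 : E)) hst
    simpa [Φ, hι] using this
  have e2 : (nrm σ (s : E))⁻¹ * ((t : ↥(fx σ)) : E) ^ 2 = c6 := by
    have := congrArg (fun x : Eˣ × (↥(fx σ))ˣ => ((x.2 : ↥(fx σ)) : E)) hst
    simpa [Φ, hν] using this
  rw [e1, e2] at h3
  exact h3

theorem exists_act' [Finite E] {c1 c6 : E} (h1 : c1 ≠ 0) (h6 : c6 ≠ 0) (hf : σ c6 = c6) :
    ∃ g, c.Act g c1 c6 := by
  obtain ⟨s, hs, t, ht, h⟩ := exists_act c h1 h6 hf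
  exact ⟨_, h⟩

theorem exists_of_mem_T0 [Finite E] {g : L} (hg : g ∈ c.T0) :
    ∃ (s : E) (hs : s ≠ 0) (t : ↥(fx σ)) (ht : t ≠ 0), g = c.pb (dg s hs) * c.pa (dg t ht) := by
  obtain ⟨c1, c6, h⟩ := hg
  obtain ⟨s, hs, t, ht, h'⟩ := exists_act c h.ne1 h.ne6 h.fix
  exact ⟨s, hs, t, ht, h.unique h'⟩

/-- the torus is self-centralising among the elements normalising all root groups -/
theorem mem_T0_of_comm [Finite E] {g : L} (hm : Maps c.X g id) (hc : ∀ t ∈ c.T0, t * g = g * t) :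
    g ∈ c.T0 := by
  obtain ⟨e1, he1⟩ := (c.par.mem1 _).1 (maps_mem hm (c.mem1 1) rfl)
  obtain ⟨e6, hf, he6⟩ := (c.par.mem6 _).1 (maps_mem hm (c.mem6 (map_one σ)) rfl)
  have n1 : e1 ≠ 0 := by
    rintro rfl
    rw [c.x1_zero, eq_comm, mul_inv_eq_one] at he1
    have : c.x1 1 = c.x1 0 := by rw [c.x1_zero]; exact mul_eq_left.1 he1
    exact one_ne_zero (c.x1_inj this)
  have n6 : e6 ≠ 0 := by
    rintro rfl
    rw [c.x6_zero, eq_comm, mul_inv_eq_one] at he6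
    have : c.x6 1 = c.x6 0 := by rw [c.x6_zero]; exact mul_eq_left.1 he6
    exact one_ne_zero (c.x6_inj (map_one σ) (map_zero σ) this)
  refine ⟨e1, e6, hm, fun a => ?_, fun t ht => ?_, n1, n6, hf⟩
  · by_cases ha : a = 0
    · subst ha
      rw [mul_zero, c.x1_zero]
      group
    obtain ⟨h, hh⟩ := exists_act' c ha one_ne_zero (map_one σ)
    have k := hc h ⟨_, _, hh⟩
    have e := hh.a1 1
    rw [mul_one] at e
    calc g * c.x1 a * g⁻¹ = (g * h) * c.x1 1 * (g * h)⁻¹ := by rw [← e]; group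
      _ = h * (g * c.x1 1 * g⁻¹) * h⁻¹ := by rw [← k]; group
      _ = _ := by rw [← he1, hh.a1, mul_comm]
  · by_cases ha : t = 0
    · subst ha
      rw [mul_zero, c.x6_zero]
      group
    obtain ⟨h, hh⟩ := exists_act' c one_ne_zero ha ht
    have k := hc h ⟨_, _, hh⟩
    have e := hh.a6 1 (map_one σ)
    rw [mul_one] at e
    calc g * c.x6 t * g⁻¹ = (g * h) * c.x6 1 * (g * h)⁻¹ := by rw [← e]; group
      _ = h * (g * c.x6 1 * g⁻¹) * h⁻¹ := by rw [← k]; group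
      _ = _ := by rw [← he6, hh.a6 e6 hf, mul_comm]


variable {c}

variable (c)

theorem braid [Finite E] :
    ∃ h ∈ c.T0, alt c.n1 c.n6 6 = alt c.n6 c.n1 6 * h := by
  refine ⟨(alt c.n6 c.n1 6)⁻¹ * alt c.n1 c.n6 6, ?_, by group⟩
  apply mem_T0_of_comm c
  · obtain ⟨h1, h3⟩ := c.maps_alt 6
    have e : Even 6 := by decide
    simp only [e, if_true] at h1 h3
    have h4 : Maps c.X (alt c.n6 c.n1 6)⁻¹ (fun k => k + (6 : ℕ)) := h3.inv (fun k => by ring)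
    refine (h4.mul h1).congr fun k => ?_
    simp only [Function.comp, id]
    have : ((6 : ℕ) : ZMod (2 * 6)) + ((6 : ℕ) : ZMod (2 * 6)) = 0 := by decide
    rw [add_assoc, this, add_zero]
  · rintro t ⟨c1, c6, ht⟩
    have h1 := ht.alt1.unique ht.alt2
    have h3 : ((alt c.n6 c.n1 6)⁻¹ * alt c.n1 c.n6 6) * t * ((alt c.n6 c.n1 6)⁻¹ * alt c.n1 c.n6 6)⁻¹ = t := by
      calc _ = (alt c.n6 c.n1 6)⁻¹ * (alt c.n1 c.n6 6 * t * (alt c.n1 c.n6 6)⁻¹) * alt c.n6 c.n1 6 := by group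
        _ = t := by rw [h1]; group
    exact (mul_inv_eq_iff_eq_mul.1 h3).symm

/-- The indexed root datum with torus `T0`. -/
def r2 [Finite E] : R2 6 L where
  X := fun k => c.X (k : ZMod (2 * 6))
  XI' := c.X 7
  XJ' := c.X 0
  H := c.T0
  nI := c.n1
  nJ := c.n6
  one_le := by norm_num
  comm := fun k l h1 h3 h4 x hx y hy => Cfsg.Agent.Hexagon.HexComm.comm_of_hexPar c.par k l h1 h3 h4 x hx y hy
  HX := by
    rintro h ⟨c1, c6, hh⟩ k _ _ x hx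
    exact maps_mem hh.maps hx rfl
  nI_X := by
    intro k h1 h3 x hx
    refine maps_mem c.maps_n1 hx ?_
    rw [Nat.cast_sub (by omega)]
    push_cast
    ring
  nJ_X := by
    intro k h1 h3 x hx
    refine maps_mem c.maps_n6 hx ?_
    rw [Nat.cast_sub h3.le]
    push_cast
    ring
  nI_pos := fun x hx => maps_mem c.maps_n1 hx (by decide)
  nI_neg := fun x hx => maps_mem c.maps_n1 hx (by decide)
  nJ_pos := fun x hx => maps_mem c.maps_n6 hx (by decide)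
  nJ_neg := fun x hx => maps_mem c.maps_n6 hx (by decide)
  nI_sq := by
    refine ⟨_, _, (c.act_b (-1) (neg_ne_zero.2 one_ne_zero)).congr ?_ rfl rfl⟩
    rw [n1, ← map_mul]
    congr 1
    refine ext_ent ?_ ?_ ?_ ?_ <;> simp [ent_mul]
  nJ_sq := by
    refine ⟨_, _, (c.act_a (-1) (neg_ne_zero.2 one_ne_zero)).congr ?_ rfl rfl⟩
    rw [n6, ← map_mul]
    congr 1
    refine ext_ent ?_ ?_ ?_ ?_ <;> simp [ent_mul]
  nI_H := by
    rintro h ⟨c1, c6, hh⟩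
    exact ⟨_, _, hh.n1⟩
  nJ_H := by
    rintro h ⟨c1, c6, hh⟩
    exact ⟨_, _, hh.n6⟩
  rank_oneI := by
    intro a ha h1
    obtain ⟨b, rfl⟩ := (c.pb_lo _).1 ha
    have hb : b ≠ 0 := by
      rintro rfl
      exact h1 (by rw [lo_zero, map_one])
    have hx : ∀ a, c.pb (up a) ∈ c.X ((1 : ℕ) : ZMod (2 * 6)) := fun a => by
      rw [c.pb_up, Nat.cast_one]; exact c.mem1 a
    refine ⟨_, hx b⁻¹, (c.pb (dg (-b⁻¹) (neg_ne_zero.2 (inv_ne_zero hb))))⁻¹, inv_mem ⟨_, _, c.act_b _ _⟩, _, hx b⁻¹, ?_⟩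
    rw [lo_eq hb, map_mul, map_mul, map_mul, map_inv, n1]
  rank_oneJ := by
    intro a ha h1
    obtain ⟨b, rfl⟩ := (c.pa_lo _).1 ha
    have hb : b ≠ 0 := by
      rintro rfl
      exact h1 (by rw [lo_zero, map_one])
    have hx : ∀ a, c.pa (up a) ∈ c.X ((6 : ℕ) : ZMod (2 * 6)) := fun a => by
      rw [c.pa_up]; exact c.mem6 a.2
    refine ⟨_, hx b⁻¹, (c.pa (dg (-b⁻¹) (neg_ne_zero.2 (inv_ne_zero hb))))⁻¹, inv_mem ⟨_, _, c.act_a _ _⟩, _, hx b⁻¹, ?_⟩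
    rw [lo_eq hb, map_mul, map_mul, map_mul, map_inv, n6]
  memI := by
    rw [Nat.cast_one]; exact c.n1_mem_sup
  memJ := c.n6_mem_sup
  braid := braid c

/-- **Bruhat decomposition**: `g = u w h v` with `w v w⁻¹` negative. -/
theorem bruhat [Finite E] (g : L) : ∃ u ∈ Sg c.X Pos, ∃ w f, c.IsRep w f ∧ ∃ h ∈ c.T0,
    ∃ t ⊆ Pos, (∀ k ∈ t, f k ∈ HexGrp.Neg) ∧ ∃ v ∈ Sg c.X t, g = u * w * h * v := by
  have hU : (r2 c).U = Sg c.X Pos := by
    apply le_antisymm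
    · refine iSup₂_le fun k hk => ?_
      have : ∀ k : ℕ, k ∈ Set.Icc 1 6 → (k : ZMod (2 * 6)) ∈ Pos := by
        intro k hk
        obtain ⟨h1, h3⟩ := hk
        interval_cases k <;> decide
      exact X_le_Sg (this k hk)
    · have key : ∀ k : ZMod (2 * 6), k ∈ Pos → ∃ r : Fin 7, 1 ≤ r.val ∧ k = (r.val : ZMod (2 * 6)) := by decide +kernel
      refine Sg_le fun k hk => ?_
      obtain ⟨r, hr, rfl⟩ := key k hk
      exact (r2 c).X_le hr (by omega)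
  have htop : (r2 c).U ⊔ (r2 c).H ⊔ ((r2 c).XI' ⊔ (r2 c).XJ') = ⊤ := by
    apply c.closure_eq_top
    · intro x
      obtain ⟨a, b, d, e, rfl⟩ := exists_up_lo x
      have h1 : ∀ a, c.pa (up a) ∈ (r2 c).U ⊔ (r2 c).H ⊔ ((r2 c).XI' ⊔ (r2 c).XJ') := fun a => by
        apply (le_sup_left.trans le_sup_left : (r2 c).U ≤ _)
        rw [hU, c.pa_up]
        exact c.sg (by decide) (c.mem6 a.2)
      have h3 : ∀ a, c.pa (lo a) ∈ (r2 c).U ⊔ (r2 c).H ⊔ ((r2 c).XI' ⊔ (r2 c).XJ') := fun a => by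
        apply (le_sup_right.trans le_sup_right : (r2 c).XJ' ≤ _)
        exact (c.pa_lo _).2 ⟨a, rfl⟩
      rw [map_mul, map_mul, map_mul]
      exact mul_mem (mul_mem (mul_mem (h1 _) (h3 _)) (h1 _)) (h3 _)
    · intro x
      obtain ⟨a, b, d, e, rfl⟩ := exists_up_lo x
      have h1 : ∀ a, c.pb (up a) ∈ (r2 c).U ⊔ (r2 c).H ⊔ ((r2 c).XI' ⊔ (r2 c).XJ') := fun a => by
        apply (le_sup_left.trans le_sup_left : (r2 c).U ≤ _)
        rw [hU, c.pb_up]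
        exact c.sg (by decide) (c.mem1 a)
      have h3 : ∀ a, c.pb (lo a) ∈ (r2 c).U ⊔ (r2 c).H ⊔ ((r2 c).XI' ⊔ (r2 c).XJ') := fun a => by
        apply (le_sup_left.trans le_sup_right : (r2 c).XI' ≤ _)
        exact (c.pb_lo _).2 ⟨a, rfl⟩
      rw [map_mul, map_mul, map_mul]
      exact mul_mem (mul_mem (mul_mem (h1 _) (h3 _)) (h1 _)) (h3 _)
  obtain ⟨b, hb, r, hr, b', hb', e⟩ := (r2 c).bruhat (y := g) (by rw [htop]; exact Subgroup.mem_top g)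
  obtain ⟨w, f, hw, e⟩ : ∃ w f, c.IsRep w f ∧ g = b * w * b' := by
    rcases e with e | e
    · exact ⟨_, _, ⟨r, hr, Or.inl ⟨rfl, rfl⟩⟩, e⟩
    · exact ⟨_, _, ⟨r, hr, Or.inr ⟨rfl, rfl⟩⟩, e⟩
  have hD : ∀ b, b ∈ (r2 c).U ⊔ (r2 c).H → ∃ u ∈ Sg c.X Pos, ∃ h ∈ c.T0, b = u * h := by
    intro b hb
    obtain ⟨u, hu, h, hh, e⟩ := (r2 c).core.mem_D.1 hb
    have hu' : u ∈ (r2 c).U := hu
    rw [hU] at hu'
    exact ⟨u, hu', h, hh, e.symm⟩
  obtain ⟨u, hu, h, hh, rfl⟩ := hD b hb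
  obtain ⟨u', hu', h', hh', hb''⟩ := hD b'⁻¹ (inv_mem hb')
  obtain rfl : b' = h'⁻¹ * u'⁻¹ := by rw [← mul_inv_rev, ← hb'', inv_inv]
  obtain ⟨s, _, t, ht, hs, ht', hdec⟩ := hw.split
  obtain ⟨a, ha, v, hv, ev⟩ := hdec u'⁻¹ (inv_mem hu')
  rw [ev] at e
  have h1 := hw.conj' hh
  have h3 : w⁻¹ * h * w * h'⁻¹ ∈ c.T0 := mul_mem h1 (inv_mem hh')
  have h4 := conj_Sg hw.maps hs (c.T0_conj h3 ha)
  refine ⟨u * (w * (w⁻¹ * h * w * h'⁻¹ * a * (w⁻¹ * h * w * h'⁻¹)⁻¹) * w⁻¹), mul_mem hu h4, w, f, hw, _, h3, t, ht,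
    ht', v, hv, ?_⟩
  rw [e]
  group

end Cfsg.Agent.H384.RG.HexB
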