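import Cfsg.Agent.H384.RG.HexC
import Cfsg.Agent.H368.RG.Engine

/-!
# Groups of type `³D₄`, any characteristic: `LRData` for the short root elements (helper384)

* `mem_main` : `x3 a ∈ [U3 a, y]` for `y ≠ 1` of prime order `≠ p` commuting with `x3 a`;
* `lrdata_short` : `LRData ⊤ p (VS c) (US c)`, `VS c` the conjugates of the elements `x3 a`, `a ≠ 0`;
* `lrdata_hom` : transport of `LRData ⊤ p V U` under an injective homomorphism.
-/

set_option autoImplicit false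

namespace Cfsg.Agent.H384.RG.HexB

open Cfsg.Agent.SplitTwo Cfsg.Agent.TitsThree.RankTwoZ Cfsg.Agent.Lib.SL2Mat
  Cfsg.Agent.TitsThree.RankTwoIdx Cfsg.Agent.TitsThree.RankTwoRGD Cfsg.Agent.Cit.HexBase
  Cfsg.Agent.Cit.HexBase.HexGrp Cfsg.Agent.H148.Hex Cfsg.Agent.H380.RC Cfsg.Agent.H368.RG
open scoped commutatorElement

universe u

section sl

variable {F : Type*} [Field F]

theorem sl_delta {p r : ℕ} (hp : p.Prime) (hpF : (p : F) = 0) (hr : r.Prime) (hrp : r ≠ p) {m : SL2 F}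
    (hm : m ^ r = 1) (hm1 : m ≠ 1) : (1 - ent m 0 0) * (1 - ent m 1 1) - ent m 0 1 * ent m 1 0 ≠ 0 := by
  intro h
  apply hm1
  have hd := det_eq m
  have ht : ent m 0 0 + ent m 1 1 = 2 := by linear_combination hd - h
  have key : ∀ n : ℕ, ent (m ^ n) 0 0 = 1 + n * (ent m 0 0 - 1) ∧ ent (m ^ n) 0 1 = n * ent m 0 1 ∧
      ent (m ^ n) 1 0 = n * ent m 1 0 ∧ ent (m ^ n) 1 1 = 1 + n * (ent m 1 1 - 1) := by
    intro n
    induction n with
    | zero => simp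
    | succ n ih =>
      obtain ⟨h1, h2, h3, h4⟩ := ih
      rw [pow_succ]
      refine ⟨?_, ?_, ?_, ?_⟩
      · rw [ent_mul, h1, h2]
        push_cast
        linear_combination (n : F) * (ent m 0 0 * ht - hd)
      · rw [ent_mul, h1, h2]
        push_cast
        linear_combination (n : F) * (ent m 0 1 * ht)
      · rw [ent_mul, h3, h4]
        push_cast
        linear_combination (n : F) * (ent m 1 0 * ht)
      · rw [ent_mul, h3, h4]
        push_cast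
        linear_combination (n : F) * (ent m 1 1 * ht - hd)
  obtain ⟨h1, h2, h3, h4⟩ := key p
  rw [hpF, zero_mul] at h1 h2 h3 h4
  have h5 : m ^ p = 1 := by
    apply ext_ent
    · rw [h1]; simp
    · rw [h2]; simp
    · rw [h3]; simp
    · rw [h4]; simp
  have h6 : orderOf m = 1 := Nat.eq_one_of_dvd_coprimes ((Nat.coprime_primes hp hr).2 hrp.symm)
    (orderOf_dvd_of_pow_eq_one h5) (orderOf_dvd_of_pow_eq_one hm)
  exact orderOf_eq_one_iff.1 h6

end sl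

variable {E : Type*} [Field E] {σ : E ≃+* E} {L : Type u} [Group L] {c : HexGrp σ L}

/-! ### `p`-groups -/

theorem pow_of_add {P : E → Prop} {x : E → L} (h0 : P 0) (ha : ∀ a b, P a → P b → P (a + b)) (hx0 : x 0 = 1)
    (hx : ∀ a b, P a → P b → x (a + b) = x a * x b) {a : E} (hP : P a) (n : ℕ) :
    P (n * a) ∧ x a ^ n = x (n * a) := by
  induction n with
  | zero => rw [Nat.cast_zero, zero_mul, pow_zero]; exact ⟨h0, hx0.symm⟩
  | succ n ih =>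
    have e : ((n + 1 : ℕ) : E) * a = n * a + a := by push_cast; ring
    rw [e]
    exact ⟨ha _ _ ih.1 hP, by rw [pow_succ, ih.2, hx _ _ ih.1 hP]⟩

theorem isPGroup_even {p : ℕ} (hpE : (p : E) = 0) {X : Subgroup L} {x : E → L} {P : E → Prop} (h0 : P 0)
    (ha : ∀ a b, P a → P b → P (a + b)) (hx0 : x 0 = 1) (hx : ∀ a b, P a → P b → x (a + b) = x a * x b)
    (hm : ∀ g, g ∈ X → ∃ a, P a ∧ x a = g) : IsPGroup p X := by
  rintro ⟨g, hg⟩
  obtain ⟨a, hP, rfl⟩ := hm g hg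
  refine ⟨1, Subtype.ext ?_⟩
  have := (pow_of_add h0 ha hx0 hx hP p).2
  rw [hpE, zero_mul, hx0] at this
  rw [pow_one]
  exact this

theorem isPGroup_step {p : ℕ} {k : ZMod (2 * 6)} {s : Finset (ZMod (2 * 6))}
    (h : ∀ j ∈ s, j = k ∨ (k ≠ j + 6 ∧ bt k j ⊆ s)) (hk : IsPGroup p ↥(c.X k)) (hs : IsPGroup p ↥(Sg c.X s)) :
    IsPGroup p ↥(Sg c.X (insert k s)) := by
  have h1 : Sg c.X (insert k s) ≤ c.X k ⊔ Sg c.X s := by
    refine Sg_le fun j hj => ?_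
    rcases Finset.mem_insert.1 hj with rfl | hj
    · exact le_sup_left
    · exact (X_le_Sg hj).trans le_sup_right
  refine IsPGroup.to_le ?_ h1
  exact IsPGroup.to_sup_of_normal_right' hk hs (c.conj_mem_Sg_of_le fun x hx g hg => c.conj_mem_Sg h hx hg)

theorem isPGroup_Qb {p : ℕ} (hpE : (p : E) = 0) : IsPGroup p ↥(Sg c.X Qb) := by
  have hT : ∀ a b : E, True → True → True := fun _ _ _ _ => trivial
  have hf : ∀ a b : E, σ a = a → σ b = b → σ (a + b) = a + b := fun a b h1 h2 => by rw [map_add, h1, h2]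
  have g1 : IsPGroup p ↥(c.X 1) := isPGroup_even hpE (P := fun _ => True) trivial hT c.x1_zero
    (fun a b _ _ => c.x1_add a b) (fun g hg => by obtain ⟨a, rfl⟩ := (c.par.mem1 _).1 hg; exact ⟨a, trivial, rfl⟩)
  have g3 : IsPGroup p ↥(c.X 3) := isPGroup_even hpE (P := fun _ => True) trivial hT c.x3_zero
    (fun a b _ _ => c.x3_add a b) (fun g hg => by obtain ⟨a, rfl⟩ := (c.par.mem3 _).1 hg; exact ⟨a, trivial, rfl⟩)
  have g5 : IsPGroup p ↥(c.X 5) := isPGroup_even hpE (P := fun _ => True) trivial hT c.x5_zero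
    (fun a b _ _ => c.x5_add a b) (fun g hg => by obtain ⟨a, rfl⟩ := (c.par.mem5 _).1 hg; exact ⟨a, trivial, rfl⟩)
  have g2 : IsPGroup p ↥(c.X 2) := isPGroup_even hpE (P := fun a => σ a = a) (map_zero σ) hf c.x2_zero
    (fun a b h1 h2 => c.x2_add h1 h2) (fun g hg => (c.par.mem2 _).1 hg)
  have g4 : IsPGroup p ↥(c.X 4) := isPGroup_even hpE (P := fun a => σ a = a) (map_zero σ) hf c.x4_zero
    (fun a b h1 h2 => c.x4_add h1 h2) (fun g hg => (c.par.mem4 _).1 hg)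
  have k5 : IsPGroup p ↥(Sg c.X {5}) := by
    refine IsPGroup.to_le g5 (Sg_le fun k hk => ?_)
    rw [Finset.mem_singleton.1 hk]
  have k4 := isPGroup_step (k := 4) (s := {5}) (by decide +kernel) g4 k5
  have k3 := isPGroup_step (k := 3) (s := {4, 5}) (by decide +kernel) g3 k4
  have k2 := isPGroup_step (k := 2) (s := {3, 4, 5}) (by decide +kernel) g2 k3
  exact isPGroup_step (k := 1) (s := {2, 3, 4, 5}) (by decide +kernel) g1 k2

/-! ### The group `U3 a` -/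

variable (c) in
/-- the centraliser of `x3 a` in `Qb` -/
def U3 (a : E) : Subgroup L := Sg c.X Qb ⊓ Subgroup.centralizer {c.x3 a}

theorem mem_U3 {a : E} {u : L} : u ∈ U3 c a ↔ u ∈ Sg c.X Qb ∧ u * c.x3 a = c.x3 a * u := by
  unfold U3
  rw [Subgroup.mem_inf, Subgroup.mem_centralizer_singleton_iff]

theorem V_U3 {a t2 b t4 : E} {u : L} (h : V c u t2 b t4) : u ∈ U3 c a := by
  refine mem_U3.2 ⟨Sg_mono (by decide +kernel) h.mem, ?_⟩
  have h1 := h.mul (v3 c a)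
  have h2 := (v3 c a).mul h
  rw [h1.2.2, h2.2.2]
  congr 2
  · rw [add_zero, zero_add]
  · rw [add_comm]
  · rw [add_zero, zero_add]

theorem x1_U3 {a b : E} (h : trc σ b a = 0) : c.x1 b ∈ U3 c a := by
  refine mem_U3.2 ⟨c.sg (by decide) (c.mem1 b), ?_⟩
  have := c.par.rel.c13 b a
  rw [h, c.x2_zero] at this
  exact eq_of_kk this

theorem x5_U3 {a b : E} (h : trc σ b a = 0) : c.x5 b ∈ U3 c a := by
  refine mem_U3.2 ⟨c.sg (by decide) (c.mem5 b), ?_⟩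
  have h1 := c.par.rel.c35 a b
  have h2 : trc σ a b = 0 := by
    rw [← h]
    unfold trc
    rw [mul_comm a b]
  rw [h2, c.x4_zero] at h1
  exact (eq_of_kk h1).symm

/-- `⟨X 2, X 4⟩` is central in `Qb` -/
theorem comm_Z {ρ z : L} {t2 t4 : E} (hρ : ρ ∈ Sg c.X Qb) (hz : V c z t2 0 t4) : ρ * z = z * ρ := by
  obtain ⟨h2, h4, rfl⟩ := hz
  rw [c.x3_zero, mul_one]
  have key : ∀ g, (∀ k ∈ (Qb : Finset (ZMod (2 * 6))), ∀ x ∈ c.X k, x * g = g * x) → ρ * g = g * ρ := by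
    intro g hg
    have h : Sg c.X Qb ≤ Subgroup.centralizer {g} :=
      Sg_le fun k hk x hx => Subgroup.mem_centralizer_singleton_iff.2 (hg k hk x hx)
    exact Subgroup.mem_centralizer_singleton_iff.1 (h hρ)
  have e2 : ρ * c.x2 t2 = c.x2 t2 * ρ := by
    refine key _ fun k hk x hx => ?_
    simp only [Finset.mem_insert, Finset.mem_singleton] at hk
    rcases hk with rfl | rfl | rfl | rfl | rfl
    · obtain ⟨b, rfl⟩ := (c.par.mem1 _).1 hx
      exact eq_of_kk (c.par.rel.c12 b t2 h2)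
    · obtain ⟨b, hb, rfl⟩ := (c.par.mem2 _).1 hx
      rw [← c.x2_add hb h2, ← c.x2_add h2 hb, add_comm]
    · obtain ⟨b, rfl⟩ := (c.par.mem3 _).1 hx
      exact (eq_of_kk (c.par.rel.c23 t2 b h2)).symm
    · obtain ⟨b, hb, rfl⟩ := (c.par.mem4 _).1 hx
      exact (eq_of_kk (c.par.rel.c24 t2 b h2 hb)).symm
    · obtain ⟨b, rfl⟩ := (c.par.mem5 _).1 hx
      exact (eq_of_kk (c.par.rel.c25 t2 b h2)).symm
  have e4 : ρ * c.x4 t4 = c.x4 t4 * ρ := by
    refine key _ fun k hk x hx => ?_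
    simp only [Finset.mem_insert, Finset.mem_singleton] at hk
    rcases hk with rfl | rfl | rfl | rfl | rfl
    · obtain ⟨b, rfl⟩ := (c.par.mem1 _).1 hx
      exact eq_of_kk (c.par.rel.c14 b t4 h4)
    · obtain ⟨b, hb, rfl⟩ := (c.par.mem2 _).1 hx
      exact eq_of_kk (c.par.rel.c24 b t4 hb h4)
    · obtain ⟨b, rfl⟩ := (c.par.mem3 _).1 hx
      exact eq_of_kk (c.par.rel.c34 b t4 h4)
    · obtain ⟨b, hb, rfl⟩ := (c.par.mem4 _).1 hx
      rw [← c.x4_add hb h4, ← c.x4_add h4 hb, add_comm]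
    · obtain ⟨b, rfl⟩ := (c.par.mem5 _).1 hx
      exact (eq_of_kk (c.par.rel.c45 t4 b h4)).symm
  rw [← mul_assoc, e2, mul_assoc, e4, ← mul_assoc]

theorem conj_V {ρ z : L} {t2 t4 : E} (hρ : ρ ∈ Sg c.X Qb) (m : SL2 ↥(fx σ)) (hz : V c z t2 0 t4) :
    V c (ρ * c.pa m * z * (ρ * c.pa m)⁻¹) (ent m 1 1 * t2 - ent m 1 0 * t4) 0 (ent m 0 0 * t4 - ent m 0 1 * t2) := by
  have h1 := V.pa c hz m
  have h2 := comm_Z hρ h1
  refine h1.congr ?_ rfl rfl rfl
  calc c.pa m * z * (c.pa m)⁻¹ = (c.pa m * z * (c.pa m)⁻¹ * ρ) * ρ⁻¹ := by group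
    _ = _ := by rw [← h2]; group

theorem conj_W {ρ z : L} {a5 a1 : E} (hρ : ρ ∈ Sg c.X Qb) (m : SL2 ↥(fx σ)) (hz : W c z a5 a1) :
    W c (ρ * c.pa m * z * (ρ * c.pa m)⁻¹) (ent m 0 0 * a5 + ent m 0 1 * a1) (ent m 1 0 * a5 + ent m 1 1 * a1) := by
  obtain ⟨b5, b1, hb⟩ := exists_W c hρ
  have h1 := hz.pa m
  exact ((hb.mul h1).mul (Winv hb)).congr (by group) (by ring) (by ring)

/-- `Qb` meets `pa SL₂` trivially -/
theorem pa_Qb {m : SL2 ↥(fx σ)} (h : c.pa m ∈ Sg c.X Qb) : m = 1 := by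
  obtain ⟨b5, b1, hb⟩ := exists_W c h
  have key : ∀ a5 a1 : E, ((ent m 0 0 : ↥(fx σ)) : E) * a5 + ((ent m 0 1 : ↥(fx σ)) : E) * a1 = a5 ∧
      ((ent m 1 0 : ↥(fx σ)) : E) * a5 + ((ent m 1 1 : ↥(fx σ)) : E) * a1 = a1 := by
    intro a5 a1
    have hz := (w5 c a5).mul (w1 c a1)
    have h1 := hz.pa m
    have h2 := ((hb.mul hz).mul (Winv hb)).unique h1
    exact ⟨by linear_combination -h2.1, by linear_combination -h2.2⟩
  obtain ⟨h1, h2⟩ := key 1 0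
  obtain ⟨h3, h4⟩ := key 0 1
  simp only [mul_one, mul_zero, add_zero, zero_add] at h1 h2 h3 h4
  apply ext_ent
  · exact Subtype.ext h1
  · exact Subtype.ext h3
  · exact Subtype.ext h2
  · exact Subtype.ext h4

theorem pow_form {ρ : L} (hρ : ρ ∈ Sg c.X Qb) (m : SL2 ↥(fx σ)) (n : ℕ) :
    ∃ ρ' ∈ Sg c.X Qb, (ρ * c.pa m) ^ n = ρ' * c.pa (m ^ n) := by
  induction n with
  | zero => exact ⟨1, one_mem _, by rw [pow_zero, pow_zero, map_one, one_mul]⟩
  | succ n ih =>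
    obtain ⟨ρ', hρ', e⟩ := ih
    refine ⟨ρ' * (c.pa (m ^ n) * ρ * (c.pa (m ^ n))⁻¹), mul_mem hρ' (pa_Qb_conj _ hρ), ?_⟩
    rw [pow_succ, e, pow_succ, map_mul]
    group

/-- **`x3 a ∈ [U3 a, y]`.** -/
theorem mem_main [Finite E] {p : ℕ} (hp : p.Prime) (hpE : (p : E) = 0) (hσ : ∃ t : E, σ t ≠ t) {a : E} (ha : a ≠ 0)
    {y : L} (hy : y * c.x3 a = c.x3 a * y) (hy1 : y ≠ 1) {r : ℕ} (hr : r.Prime) (hrp : r ≠ p) (hyr : y ^ r = 1) :
    c.x3 a ∈ cmm (U3 c a) y := by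
  obtain ⟨ρ, hρ, m, rfl⟩ := cent_form ha hy
  have hpF : ((p : ℕ) : ↥(fx σ)) = 0 := Subtype.ext (by push_cast; exact hpE)
  have hmr : m ^ r = 1 := by
    obtain ⟨ρ', hρ', e⟩ := pow_form hρ m r
    rw [hyr] at e
    refine pa_Qb (c := c) ?_
    rw [show c.pa (m ^ r) = ρ'⁻¹ from eq_inv_of_mul_eq_one_right e.symm]
    exact inv_mem hρ'
  have hm1 : m ≠ 1 := by
    rintro rfl
    rw [map_one, mul_one] at hy1 hyr
    obtain ⟨k, hk⟩ := isPGroup_Qb (c := c) hpE ⟨ρ, hρ⟩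
    have hk' : ρ ^ p ^ k = 1 := congrArg Subtype.val hk
    have h6 : orderOf ρ = 1 := Nat.eq_one_of_dvd_coprimes
      (Nat.Coprime.pow_left k ((Nat.coprime_primes hp hr).2 hrp.symm))
      (orderOf_dvd_of_pow_eq_one hk') (orderOf_dvd_of_pow_eq_one hyr)
    exact hy1 (orderOf_eq_one_iff.1 h6)
  have hδ := sl_delta hp hpF hr hrp hmr hm1
  obtain ⟨A, hA⟩ : ∃ A : E, A = ent m 0 0 := ⟨_, rfl⟩
  obtain ⟨B, hB⟩ : ∃ B : E, B = ent m 0 1 := ⟨_, rfl⟩
  obtain ⟨C, hC⟩ : ∃ C : E, C = ent m 1 0 := ⟨_, rfl⟩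
  obtain ⟨D, hD⟩ : ∃ D : E, D = ent m 1 1 := ⟨_, rfl⟩
  obtain ⟨δ, hδe⟩ : ∃ δ : E, δ = (1 - A) * (1 - D) - B * C := ⟨_, rfl⟩
  have hδ0 : δ ≠ 0 := by
    rw [hδe, hA, hB, hC, hD]
    intro h
    exact hδ (Subtype.ext (by push_cast; exact h))
  have fA : σ A = A := by rw [hA]; exact (ent m 0 0).2
  have fB : σ B = B := by rw [hB]; exact (ent m 0 1).2
  have fC : σ C = C := by rw [hC]; exact (ent m 1 0).2
  have fD : σ D = D := by rw [hD]; exact (ent m 1 1).2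
  have fδ : σ δ = δ := by rw [hδe]; simp only [map_sub, map_mul, map_one, fA, fB, fC, fD]
  have fi : σ δ⁻¹ = δ⁻¹ := inv_fix fδ
  obtain ⟨y, hye⟩ : ∃ y, y = ρ * c.pa m := ⟨_, rfl⟩
  rw [← hye]
  have hcm : ∀ u ∈ U3 c a, u * (y * u⁻¹ * y⁻¹) ∈ cmm (U3 c a) y := by
    intro u hu
    have := mem_cmm (x := y) hu
    rwa [show u * (y * u⁻¹ * y⁻¹) = u * y * u⁻¹ * y⁻¹ by group]
  -- `⟨X 2, X 4⟩`
  have hZ : ∀ z α β, V c z α 0 β → z ∈ cmm (U3 c a) y := by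
    intro z α β hz
    have fs : σ (δ⁻¹ * ((1 - A) * α - C * β)) = δ⁻¹ * ((1 - A) * α - C * β) := by
      simp only [map_sub, map_mul, map_one, fA, fC, fi, hz.1, hz.2.1]
    have ft : σ (δ⁻¹ * ((1 - D) * β - B * α)) = δ⁻¹ * ((1 - D) * β - B * α) := by
      simp only [map_sub, map_mul, map_one, fB, fD, fi, hz.1, hz.2.1]
    have hu := (v2 c fs).mul (v4 c ft)
    have h1 := conj_V hρ m ((Vinv hu).congr rfl rfl (by ring) rfl)
    rw [← hye] at h1
    have h2 := hu.mul h1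
    have h3 := hcm _ (V_U3 (a := a) hu)
    have e : z = c.x2 (δ⁻¹ * ((1 - A) * α - C * β)) * c.x4 (δ⁻¹ * ((1 - D) * β - B * α)) *
        (y * (c.x2 (δ⁻¹ * ((1 - A) * α - C * β)) * c.x4 (δ⁻¹ * ((1 - D) * β - B * α)))⁻¹ * y⁻¹) := by
      rw [h2.2.2, hz.2.2, ← hA, ← hB, ← hC, ← hD]
      have e1 : α = δ⁻¹ * ((1 - A) * α - C * β) + 0 + (D * -(δ⁻¹ * ((1 - A) * α - C * β) + 0) -
          C * -(0 + δ⁻¹ * ((1 - D) * β - B * α))) := by
        have : α = δ⁻¹ * δ * α := by rw [inv_mul_cancel₀ hδ0, one_mul]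
        rw [hδe] at this ⊢
        linear_combination this
      have e3 : (0 : E) = 0 + 0 + 0 := by ring
      have e4 : β = 0 + δ⁻¹ * ((1 - D) * β - B * α) + (A * -(0 + δ⁻¹ * ((1 - D) * β - B * α)) -
          B * -(δ⁻¹ * ((1 - A) * α - C * β) + 0)) := by
        have : β = δ⁻¹ * δ * β := by rw [inv_mul_cancel₀ hδ0, one_mul]
        rw [hδe] at this ⊢
        linear_combination this
      rw [← e1, ← e3, ← e4]
    rw [e]
    exact h3
  -- modulo `⟨X 2, X 3, X 4⟩`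
  have hW : ∀ P5 P1 : E, trc σ P5 a = 0 → trc σ P1 a = 0 → ∃ w ∈ cmm (U3 c a) y, W c w P5 P1 := by
    intro P5 P1 h5 h1
    obtain ⟨q5, hq5⟩ : ∃ q5, q5 = δ⁻¹ * ((1 - D) * P5 + B * P1) := ⟨_, rfl⟩
    obtain ⟨q1, hq1⟩ : ∃ q1, q1 = δ⁻¹ * (C * P5 + (1 - A) * P1) := ⟨_, rfl⟩
    unfold trc at h5 h1
    have t5 : trc σ q5 a = 0 := by
      rw [hq5]
      unfold trc
      simp only [map_mul, map_add, map_sub, map_one, fA, fB, fC, fD, fi] at h5 h1 ⊢
      linear_combination δ⁻¹ * ((1 - D) * h5 + B * h1)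
    have t1 : trc σ q1 a = 0 := by
      rw [hq1]
      unfold trc
      simp only [map_mul, map_add, map_sub, map_one, fA, fB, fC, fD, fi] at h5 h1 ⊢
      linear_combination δ⁻¹ * (C * h5 + (1 - A) * h1)
    have hu := (w5 c q5).mul (w1 c q1)
    have h2 := conj_W hρ m (Winv hu)
    rw [← hye] at h2
    refine ⟨_, hcm _ (mul_mem (x5_U3 t5) (x1_U3 t1)), (hu.mul h2).congr rfl ?_ ?_⟩
    · rw [← hA, ← hB, hq5, hq1]
      have : P5 = δ⁻¹ * δ * P5 := by rw [inv_mul_cancel₀ hδ0, one_mul]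
      rw [hδe] at this ⊢
      linear_combination -this
    · rw [← hC, ← hD, hq5, hq1]
      have : P1 = δ⁻¹ * δ * P1 := by rw [inv_mul_cancel₀ hδ0, one_mul]
      rw [hδe] at this ⊢
      linear_combination -this
  -- the commutators
  have hX : ∀ b1 b5 : E, trc σ b1 a = 0 → trc σ b5 a = 0 → c.x3 (crs σ b1 b5) ∈ cmm (U3 c a) y := by
    intro b1 b5 h1 h5
    obtain ⟨w, hw, k, hk, e⟩ := hW 0 b1 (by unfold trc; simp) h1
    rw [c.x5_zero, one_mul] at e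
    have hw2 := mul_mem (inv_mem hw) (cmm_conj (inv_mem (x5_U3 h5)) hw)
    rw [inv_inv] at hw2
    obtain ⟨k2, k3, k4, hV⟩ := exists_V c hk
    obtain ⟨l2, l4, hV'⟩ := p3_x5 (c := c) (-b5) _ _ _ _ hV
    have hkk : V c (kk (c.x1 b1) (c.x5 b5)) (-(trc σ (shp σ b1) b5)) (crs σ b1 b5) (trc σ b1 (shp σ b5)) :=
      ⟨neg_fix (trc_fix c.cube _ _), trc_fix c.cube _ _, c.par.rel.c15 b1 b5⟩
    have e2 : w⁻¹ * ((c.x5 b5)⁻¹ * w * c.x5 b5) = k⁻¹ * kk (c.x1 b1) (c.x5 b5) * (c.x5 (-b5) * k * (c.x5 (-b5))⁻¹) := by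
      rw [e, c.x5_neg]
      unfold kk
      group
    have h6 := ((Vinv hV).mul hkk).mul hV'
    rw [e2] at hw2
    have h7 : V c (c.x3 (crs σ b1 b5) * (k⁻¹ * kk (c.x1 b1) (c.x5 b5) * (c.x5 (-b5) * k * (c.x5 (-b5))⁻¹))⁻¹) _ 0 _ :=
      ((v3 c (crs σ b1 b5)).mul (Vinv h6)).congr rfl rfl (by ring) rfl
    have h8 := mul_mem (hZ _ _ _ h7) hw2
    rwa [inv_mul_cancel_right] at h8
  obtain ⟨b1, b5, d1, d5, h1, h2, h3, h4, h5⟩ := exists_crs c.cube hσ ha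
  have h6 := mul_mem (hX b1 b5 h1 h2) (hX d1 d5 h3 h4)
  rwa [← c.x3_add, h5] at h6

/-! ### `LRData` -/

/-- transport of `cmm` -/
theorem map_cmm {G G' : Type*} [Group G] [Group G'] (f : G →* G') {U : Subgroup G} {x z : G} (hz : z ∈ cmm U x) :
    f z ∈ cmm (U.map f) (f x) := by
  have h : cmm U x ≤ (cmm (U.map f) (f x)).comap f := by
    conv_lhs => rw [cmm]
    rw [Subgroup.closure_le]
    rintro _ ⟨u, hu, rfl⟩
    change f (u * x * u⁻¹ * x⁻¹) ∈ cmm (U.map f) (f x)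
    have := mem_cmm (x := f x) (Subgroup.mem_map_of_mem f hu)
    simpa only [map_mul, map_inv] using this
  exact h hz

variable (c) in
/-- the short root elements -/
def VS (v : L) : Prop := ∃ (g : L) (a : E), a ≠ 0 ∧ v = g * c.x3 a * g⁻¹

open scoped Classical in
variable (c) in
/-- their groups -/
noncomputable def US (v : L) : Subgroup L :=
  if h : ∃ (g : L) (a : E), a ≠ 0 ∧ v = g * c.x3 a * g⁻¹ then
    (U3 c h.choose_spec.choose).map (MulAut.conj h.choose).toMonoidHom else ⊥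

theorem US_spec {v : L} (h : VS c v) : ∃ (g : L) (a : E), a ≠ 0 ∧ v = g * c.x3 a * g⁻¹ ∧
    US c v = (U3 c a).map (MulAut.conj g).toMonoidHom := by
  have h' : ∃ (g : L) (a : E), a ≠ 0 ∧ v = g * c.x3 a * g⁻¹ := h
  refine ⟨h'.choose, h'.choose_spec.choose, h'.choose_spec.choose_spec.1, h'.choose_spec.choose_spec.2, ?_⟩
  unfold US
  rw [dif_pos h']

theorem isPGroup_US {p : ℕ} (hpE : (p : E) = 0) {v : L} (h : VS c v) : IsPGroup p ↥(US c v) := by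
  obtain ⟨g, a, ha, rfl, e⟩ := US_spec h
  rw [e]
  exact IsPGroup.map ((isPGroup_Qb hpE).to_le inf_le_left) _

/-- the elements commuting with `x3 a` normalise `U3 a` -/
theorem norm_U3 [Finite E] {a : E} (ha : a ≠ 0) {y u : L} (hy : y * c.x3 a = c.x3 a * y) (hu : u ∈ U3 c a) :
    y * u * y⁻¹ ∈ U3 c a := by
  obtain ⟨h1, h2⟩ := mem_U3.1 hu
  refine mem_U3.2 ⟨?_, ?_⟩
  · obtain ⟨ρ, hρ, m, rfl⟩ := cent_form ha hy
    have e : ρ * c.pa m * u * (ρ * c.pa m)⁻¹ = ρ * (c.pa m * u * (c.pa m)⁻¹) * ρ⁻¹ := by group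
    rw [e]
    exact mul_mem (mul_mem hρ (pa_Qb_conj m h1)) (inv_mem hρ)
  · have e : y⁻¹ * c.x3 a = c.x3 a * y⁻¹ := by
      calc y⁻¹ * c.x3 a = y⁻¹ * (c.x3 a * y) * y⁻¹ := by group
        _ = _ := by rw [← hy]; group
    calc y * u * y⁻¹ * c.x3 a = y * u * (y⁻¹ * c.x3 a) := by group
      _ = y * (u * c.x3 a) * y⁻¹ := by rw [e]; group
      _ = (y * c.x3 a) * u * y⁻¹ := by rw [h2]; group
      _ = _ := by rw [hy]; group

/-- **`LRData` for the short root elements.** -/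
theorem lrdata_short [Finite E] [Finite L] {p : ℕ} (hp : p.Prime) (hpE : (p : E) = 0) (hσ : ∃ t : E, σ t ≠ t) :
    LRData (⊤ : Subgroup L) p (VS c) (US c) := by
  have : Fact p.Prime := ⟨hp⟩
  have hcomm : ∀ (g : L) (a : E) (y : L), y * (g * c.x3 a * g⁻¹) = g * c.x3 a * g⁻¹ * y →
      (g⁻¹ * y * g) * c.x3 a = c.x3 a * (g⁻¹ * y * g) := by
    intro g a y h
    calc (g⁻¹ * y * g) * c.x3 a = g⁻¹ * (y * (g * c.x3 a * g⁻¹)) * g := by group
      _ = _ := by rw [h]; group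
  refine ⟨?_, ?_, ?_, ?_, ?_, ?_⟩
  · rintro _ ⟨g, a, ha, rfl⟩ h1
    apply ha
    have h2 : c.x3 a = 1 := by
      calc c.x3 a = g⁻¹ * (g * c.x3 a * g⁻¹) * g := by group
        _ = 1 := by rw [h1]; group
    rw [← c.x3_zero] at h2
    exact c.x3_inj h2
  · intro v hv u hu
    obtain ⟨g, a, ha, rfl, e⟩ := US_spec hv
    rw [e] at hu
    obtain ⟨w, hw, rfl⟩ := hu
    have h2 := (mem_U3.1 hw).2
    change g * w * g⁻¹ * (g * c.x3 a * g⁻¹) = g * c.x3 a * g⁻¹ * (g * w * g⁻¹)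
    calc g * w * g⁻¹ * (g * c.x3 a * g⁻¹) = g * (w * c.x3 a) * g⁻¹ := by group
      _ = _ := by rw [h2]; group
  · intro v hv
    exact (isPGroup_US hpE hv).isNilpotent
  · intro v hv r hr hrp
    obtain ⟨n, hn⟩ := IsPGroup.iff_card.1 (isPGroup_US hpE hv)
    rw [hn]
    exact Nat.Coprime.pow_right n ((Nat.coprime_primes hr hp).2 hrp)
  · intro v hv y _ hy u hu
    obtain ⟨g, a, ha, rfl, e⟩ := US_spec hv
    rw [e] at hu ⊢
    obtain ⟨w, hw, rfl⟩ := hu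
    refine ⟨_, norm_U3 ha (hcomm g a y hy) hw, ?_⟩
    change g * (g⁻¹ * y * g * w * (g⁻¹ * y * g)⁻¹) * g⁻¹ = y * (g * w * g⁻¹) * y⁻¹
    group
  · intro v hv y _ hy hy1 r hr hrp hyr
    obtain ⟨g, a, ha, rfl, e⟩ := US_spec hv
    rw [e]
    have h1 : g⁻¹ * y * g ≠ 1 := by
      intro h
      apply hy1
      calc y = g * (g⁻¹ * y * g) * g⁻¹ := by group
        _ = 1 := by rw [h]; group
    have h2 : (g⁻¹ * y * g) ^ r = 1 := by
      have := conj_pow (a := g⁻¹) (b := y) (i := r)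
      rw [inv_inv] at this
      rw [this, hyr]
      group
    have h3 := map_cmm (MulAut.conj g).toMonoidHom (mem_main hp hpE hσ ha (hcomm g a y hy) h1 hr hrp h2)
    have e1 : (MulAut.conj g).toMonoidHom (g⁻¹ * y * g) = y := by
      change g * (g⁻¹ * y * g) * g⁻¹ = y
      group
    rw [e1] at h3
    exact h3

/-- **Transport of `LRData ⊤` under an injective homomorphism.** -/
theorem lrdata_hom {S G : Type*} [Group S] [Group G] {f : S →* G} (hf : Function.Injective f) {p : ℕ} {V : S → Prop}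
    {U : S → Subgroup S} (h : LRData (⊤ : Subgroup S) p V U) {V' : G → Prop} {U' : G → Subgroup G}
    (hV : ∀ v, V' v → ∃ a, f a = v ∧ V a) (hU : ∀ a, V a → U' (f a) = (U a).map f) : LRData f.range p V' U' := by
  refine ⟨?_, ?_, ?_, ?_, ?_, ?_⟩
  · intro v hv h1
    obtain ⟨a, rfl, ha⟩ := hV v hv
    exact h.ne a ha (hf (h1.trans (map_one f).symm))
  · intro v hv u hu
    obtain ⟨a, rfl, ha⟩ := hV v hv
    rw [hU a ha] at hu
    obtain ⟨w, hw, rfl⟩ := hu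
    rw [← map_mul, ← map_mul, h.comm a ha w hw]
  · intro v hv
    obtain ⟨a, rfl, ha⟩ := hV v hv
    rw [hU a ha]
    have := h.nil a ha
    exact Group.nilpotent_of_mulEquiv ((U a).equivMapOfInjective f hf)
  · intro v hv r hr hrp
    obtain ⟨a, rfl, ha⟩ := hV v hv
    rw [hU a ha, Subgroup.card_map_of_injective hf]
    exact h.card a ha r hr hrp
  · intro v hv y hy hyv u hu
    obtain ⟨a, rfl, ha⟩ := hV v hv
    obtain ⟨b, rfl⟩ := hy
    rw [hU a ha] at hu ⊢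
    obtain ⟨w, hw, rfl⟩ := hu
    refine ⟨b * w * b⁻¹, h.norm a ha b (Subgroup.mem_top b) (hf (by simpa only [map_mul] using hyv)) w hw, ?_⟩
    simp only [map_mul, map_inv]
  · intro v hv y hy hyv hy1 r hr hrp hyr
    obtain ⟨a, rfl, ha⟩ := hV v hv
    obtain ⟨b, rfl⟩ := hy
    rw [hU a ha]
    exact map_cmm f (h.mem a ha b (Subgroup.mem_top b) (hf (by simpa only [map_mul] using hyv))
      (fun h1 => hy1 (by rw [h1, map_one])) r hr hrp (hf (by rw [map_pow, hyr, map_one])))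

end Cfsg.Agent.H384.RG.HexB
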